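import Groth.Agent.AbSchLib.Main
import Groth.Agent.BiAddRigidLib.Basic
import Groth.Agent.ASp.FppfGlue
import Groth.Prelude.Def_CGrpSh
import Mathlib.CategoryTheory.Sites.EpiMono

/-!
# Multiplication by a non-zero integer is an epimorphism of the fppf sheaf of an abelian scheme
-/

set_option autoImplicit false
set_option backward.isDefEq.respectTransparency false
universe u

open CategoryTheory CategoryTheory.Limits MonoidalCategory CartesianMonoidalCategory MonObj GrpObj AlgebraicGeometry Opposite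

noncomputable section

namespace Groth.Agent.AbEpiLib

variable {S : Scheme.{u}}

theorem zsmul_pts_app (G : Over S) [GrpObj G] [IsCommMonObj G] (n : ℤ) {T : Over S}
    (x : (CGrpSh.pts Scheme.fppfPrecoverage G).obj.obj (op T)) :
    (n • 𝟙 (CGrpSh.pts Scheme.fppfPrecoverage G)).hom.app (op T) x = n • x := by
  let ev : (CGrpSh.pts Scheme.fppfPrecoverage G ⟶ CGrpSh.pts Scheme.fppfPrecoverage G) →+
      ((CGrpSh.pts Scheme.fppfPrecoverage G).obj.obj (op T) →+ (CGrpSh.pts Scheme.fppfPrecoverage G).obj.obj (op T)) :=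
    AddMonoidHom.mk' (fun ψ => (ψ.hom.app (op T)).hom) (fun _ _ => rfl)
  exact DFunLike.congr_fun (map_zsmul ev n (𝟙 _)) x

/-- Multiplication by `n` is locally surjective as soon as `[n]` is fppf. -/
theorem isLocallySurjective_zsmul (G : Over S) [GrpObj G] [IsCommMonObj G] (n : ℤ)
    [Flat (𝟙 G ^ n : G ⟶ G).left] [LocallyOfFinitePresentation (𝟙 G ^ n : G ⟶ G).left]
    [Surjective (𝟙 G ^ n : G ⟶ G).left] :
    Sheaf.IsLocallySurjective (n • 𝟙 (CGrpSh.pts Scheme.fppfPrecoverage G)) := by
  refine ⟨fun {T} x => ?_⟩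
  let h : G ⟶ G := 𝟙 G ^ n
  let a : T ⟶ G := x.down.toMul
  let T' : Over S := Over.mk (pullback.fst a.left h.left ≫ T.hom)
  let p : T' ⟶ T := Over.homMk (pullback.fst a.left h.left) rfl
  have hp : pullback.fst a.left h.left = p.left := rfl
  let b : T' ⟶ G := Over.homMk (pullback.snd a.left h.left) (by
    show pullback.snd a.left h.left ≫ G.hom = pullback.fst a.left h.left ≫ T.hom
    rw [← Over.w h, ← pullback.condition_assoc, Over.w a])
  have hb : b ≫ h = p ≫ a := Over.OverMorphism.ext (pullback.condition).symm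
  have hflat : Flat p.left := inferInstanceAs (Flat (pullback.fst a.left h.left))
  have hlfp : LocallyOfFinitePresentation p.left :=
    inferInstanceAs (LocallyOfFinitePresentation (pullback.fst a.left h.left))
  have hsurj : Surjective p.left := inferInstanceAs (Surjective (pullback.fst a.left h.left))
  have hcov : Sieve.ofArrows (fun _ : PUnit.{u + 1} => T') (fun _ => p) ∈ QuotSh.J Scheme.fppfPrecoverage S T :=
    ASp.ofArrows_mem_J _ _ (fun _ => hflat) (fun _ => hlfp) fun t =>
      ⟨PUnit.unit, hsurj.surj t⟩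
  refine GrothendieckTopology.superset_covering _ ?_ hcov
  rw [Sieve.ofArrows, Sieve.generate_le_iff]
  rintro _ _ ⟨⟩
  refine ⟨ULift.up (Additive.ofMul b), ?_⟩
  rw [zsmul_pts_app]
  refine ULift.ext _ _ ?_
  show Additive.ofMul (b ^ n) = Additive.ofMul (p ≫ a)
  rw [← hb, GrpObj.comp_zpow, Category.comp_id]

theorem epi_zsmul_pts (A : Over S) [GrpObj A] [IsCommMonObj A] [Smooth A.hom] [IsProper A.hom]
    (hA : ∀ s : S, ConnectedSpace ↥(A.hom.fiber s)) (n : ℤ) (hn : n ≠ 0) :
    Epi (n • 𝟙 (CGrpSh.pts Scheme.fppfPrecoverage A)) := by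
  haveI : GeometricallyReduced A.hom := BiAddRigidLib.geometricallyReduced_of_smooth A.hom
  haveI : GeometricallyConnected A.hom :=
    MonoFibre.geometricallyConnected_of_connected_fibres A.hom η[A].left (Over.w η[A]) hA
  obtain ⟨h1, h2, h3⟩ := AbSchLib.zpow_spec A n hn
  haveI : LocallyOfFinitePresentation (𝟙 A ^ n : A ⟶ A).left :=
    haveI : LocallyOfFinitePresentation ((𝟙 A ^ n : A ⟶ A).left ≫ A.hom) := by
      rw [Over.w]; infer_instance
    FlatLocus.locallyOfFinitePresentation_of_comp _ A.hom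
  haveI := isLocallySurjective_zsmul A n
  exact Sheaf.epi_of_isLocallySurjective _

end Groth.Agent.AbEpiLib
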